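import Groth.Agent.PLieLib.Jacobson
import Groth.Agent.PBW.Basic

/-! # Jacobson's theorem: `p`-maps from their values on a basis -/

universe u v w

namespace Groth.Agent.PLieLib

variable {R : Type u} [CommRing R] {p : ℕ} [Fact p.Prime] [CharP R p]
  {L : Type v} [LieRing L] [LieAlgebra R L]

theorem pmap_ext {ι : Type w} (b : Module.Basis ι R L) (φ ψ : PLie.PMap R p L) (h : ∀ i, φ (b i) = ψ (b i)) :
    φ = ψ := by
  have : φ.toFun = ψ.toFun := funext fun x => by
    induction b.mem_span x using Submodule.span_induction with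
    | mem x hx => obtain ⟨i, rfl⟩ := hx; exact h i
    | zero =>
      rw [← zero_smul R (0 : L), φ.map_smul, ψ.map_smul, zero_pow (Fact.out : p.Prime).ne_zero, zero_smul, zero_smul]
    | add a c _ _ ha hc => rw [φ.map_add, ψ.map_add, ha, hc]
    | smul c a _ ha => rw [φ.map_smul, ψ.map_smul, ha]
  cases φ; cases ψ
  simpa using this

open UniversalEnvelopingAlgebra in
/-- Jacobson's theorem. -/
theorem exists_pmap {ι : Type w} (b : Module.Basis ι R L) (y : ι → L)
    (hy : ∀ i, LieAlgebra.ad R L (b i) ^ p = LieAlgebra.ad R L (y i)) :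
    ∃ φ : PLie.PMap R p L, ∀ i, φ (b i) = y i := by
  classical
  have hp : p.Prime := Fact.out
  have := WellOrderingRel.isWellOrder (α := ι)
  let : LinearOrder ι := linearOrderOfSTO (WellOrderingRel (α := ι))
  let := LieRing.ofAssociativeRing (A := UniversalEnvelopingAlgebra R L)
  let U := UniversalEnvelopingAlgebra R L
  let e : L →ₗ[R] U := (UniversalEnvelopingAlgebra.ι R).toLinearMap
  have he : ∀ x z : L, e ⁅x, z⁆ = e x * e z - e z * e x := fun x z =>
    (LieHom.map_lie (UniversalEnvelopingAlgebra.ι R) x z).trans (LieRing.of_associative_ring_bracket _ _)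
  have hcom : ∀ (n : ℕ) (x a : L), (com R (e x) ^ n) (e a) = e ((LieAlgebra.ad R L x ^ n) a) := by
    intro n
    induction n with
    | zero => intros; simp
    | succ n ih =>
      intro x a
      rw [pow_succ', pow_succ', Module.End.mul_apply, Module.End.mul_apply, ih, com_apply, LieAlgebra.ad_apply, he]
  let z : ι → U := fun i => e (b i) ^ p - e (y i)
  let Z := Submodule.span R (Set.range z)
  have hcentral : ∀ u ∈ Z, ∀ a : L, com R u (e a) = 0 := by
    intro u hu a
    induction hu using Submodule.span_induction with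
    | mem u hu =>
      obtain ⟨i, rfl⟩ := hu
      have h1 : com R (e (b i) ^ p) (e a) = e ⁅y i, a⁆ := by
        rw [← com_pow_char (R := R) p, hcom, hy, LieAlgebra.ad_apply]
      rw [com_apply] at h1 ⊢
      rw [he] at h1
      simp only [z, sub_mul, mul_sub]
      rw [sub_sub_sub_comm, h1, sub_self]
    | zero => simp [com_apply]
    | add u v _ _ hu hv =>
      rw [com_apply] at hu hv ⊢
      rw [add_mul, mul_add, add_sub_add_comm, hu, hv, add_zero]
    | smul c u _ hu =>
      rw [com_apply] at hu ⊢
      rw [smul_mul_assoc, mul_smul_comm, ← smul_sub, hu, smul_zero]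
  let B := Groth.Agent.PBW.basis b
  let w1 : ι → Groth.Agent.PBW.W ι := fun i => ⟨[i], (List.pairwise_singleton _ i).sortedLE⟩
  let wp : ι → Groth.Agent.PBW.W ι := fun i => ⟨List.replicate p i, (List.pairwise_replicate.mpr (Or.inr le_rfl)).sortedLE⟩
  have hw1 : ∀ i, e (b i) = B (w1 i) := fun i => by
    rw [Groth.Agent.PBW.basis_apply, Groth.Agent.PBW.mono]
    simp [w1, e]
  have hwp : ∀ i, e (b i) ^ p = B (wp i) := fun i => by
    rw [Groth.Agent.PBW.basis_apply, Groth.Agent.PBW.mono]
    simp [wp, e]
  have hne : ∀ i j, w1 j ≠ wp i := fun i j h => by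
    have := congrArg (fun w : Groth.Agent.PBW.W ι => w.1.length) h
    simp [w1, wp] at this
    exact hp.ne_one this.symm
  have hewp : ∀ i x, B.coord (wp i) (e x) = 0 := by
    intro i x
    induction b.mem_span x using Submodule.span_induction with
    | mem x hx => obtain ⟨j, rfl⟩ := hx; simp [hw1, hne i j]
    | zero => simp
    | add a c _ _ ha hc => simp only [map_add, ha, hc, add_zero]
    | smul c a _ ha => simp only [map_smul, ha, smul_zero]
  have hinj : ∀ l : L, e l = 0 → l = 0 := by
    intro l hl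
    refine b.ext_elem fun j => ?_
    have : B.coord (w1 j) ∘ₗ e = b.coord j := b.ext fun i => by
      have : w1 i = w1 j ↔ i = j := by simp [w1]
      simp [hw1, Finsupp.single_apply, this]
    have h2 := LinearMap.congr_fun this l
    rw [LinearMap.comp_apply, hl, map_zero] at h2
    rw [map_zero, Finsupp.zero_apply]
    exact h2.symm
  have huniq : ∀ l : L, e l ∈ Z → l = 0 := by
    intro l hl
    obtain ⟨c, hc⟩ := (Finsupp.mem_span_range_iff_exists_finsupp).mp hl
    apply hinj
    have hc0 : ∀ i, c i = 0 := fun i => by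
      have := congrArg (B.coord (wp i)) hc
      rw [hewp] at this
      simp only [Finsupp.sum, map_sum, map_smul, z, map_sub, hewp, sub_zero, hwp, Module.Basis.coord_apply,
        Module.Basis.repr_self, Finsupp.single_apply, smul_eq_mul] at this
      rw [Finset.sum_eq_single i (fun j _ hji => by
        rw [if_neg (fun h => hji ?_), mul_zero]
        have := congrArg (fun w : Groth.Agent.PBW.W ι => w.1) h
        exact (List.replicate_right_inj hp.ne_zero).mp this) (fun h => by simp [Finsupp.notMem_support_iff.mp h]),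
        if_pos rfl, mul_one] at this
      exact this
    rw [← hc, Finsupp.ext hc0 (g := 0), Finsupp.sum_zero_index]
  have hex : ∀ x : L, ∃ l : L, e x ^ p - e l ∈ Z := by
    intro x
    induction b.mem_span x using Submodule.span_induction with
    | mem x hx => obtain ⟨i, rfl⟩ := hx; exact ⟨y i, Submodule.subset_span ⟨i, rfl⟩⟩
    | zero => exact ⟨0, by simp [hp.ne_zero]⟩
    | add a c _ _ ha hc =>
      obtain ⟨la, hla⟩ := ha
      obtain ⟨lc, hlc⟩ := hc
      refine ⟨la + lc - PLie.jacobson R p a c, ?_⟩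
      convert Z.add_mem hla hlc using 1
      rw [map_sub, map_add, map_add, jacobson_assoc e he]
      abel
    | smul c a _ ha =>
      obtain ⟨la, hla⟩ := ha
      refine ⟨c ^ p • la, ?_⟩
      rw [map_smul, map_smul, smul_pow, ← smul_sub]
      exact Z.smul_mem _ hla
  choose φ hφ using hex
  have heq : ∀ x l : L, e x ^ p - e l ∈ Z → φ x = l := fun x l h => by
    refine sub_eq_zero.mp (huniq _ ?_)
    have := Z.sub_mem h (hφ x)
    rwa [sub_sub_sub_cancel_left, ← map_sub] at this
  refine ⟨{ toFun := φ, map_smul := fun c x => heq _ _ ?_, ad_map := fun x => ?_, map_add := fun a c => heq _ _ ?_ },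
    fun i => heq _ _ (Submodule.subset_span ⟨i, rfl⟩)⟩
  · rw [map_smul, map_smul, smul_pow, ← smul_sub]
    exact Z.smul_mem _ (hφ x)
  · refine LinearMap.ext fun a => ?_
    refine sub_eq_zero.mp (hinj _ ?_)
    have h1 := hcentral _ (hφ x) a
    rw [com_apply, sub_mul, mul_sub, sub_sub_sub_comm, ← com_apply (R := R), ← com_apply (R := R),
      ← com_pow_char (R := R) p, hcom, sub_eq_zero] at h1
    rw [map_sub, h1, LieAlgebra.ad_apply, he, com_apply, sub_self]
  · convert Z.add_mem (hφ a) (hφ c) using 1
    rw [map_sub, map_add, map_add, jacobson_assoc e he]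
    abel

theorem existsUnique_pmap {ι : Type w} (b : Module.Basis ι R L) (y : ι → L)
    (hy : ∀ i, LieAlgebra.ad R L (b i) ^ p = LieAlgebra.ad R L (y i)) :
    ∃! φ : PLie.PMap R p L, ∀ i, φ (b i) = y i := by
  obtain ⟨φ, h⟩ := exists_pmap b y hy
  exact ⟨φ, h, fun ψ hψ => pmap_ext b ψ φ fun i => (hψ i).trans (h i).symm⟩

theorem nonempty_pmap_iff {ι : Type w} (b : Module.Basis ι R L) :
    Nonempty (PLie.PMap R p L) ↔ ∀ i, ∃ y : L, LieAlgebra.ad R L (b i) ^ p = LieAlgebra.ad R L y :=
  ⟨fun ⟨φ⟩ i => ⟨φ (b i), (φ.ad_map (b i)).symm⟩, fun h => by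
    choose y hy using h
    obtain ⟨φ, -⟩ := exists_pmap b y hy
    exact ⟨φ⟩⟩

end Groth.Agent.PLieLib
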