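import Mathlib
import Groth.Prelude.Def_PLie

/-! # Ideals of restricted Lie algebras: radical, nilradical -/

universe u v

namespace Groth.Agent.PLieLib

variable {R : Type u} [CommRing R] {p : ℕ} [CharP R p] {L : Type v} [LieRing L] [LieAlgebra R L]
  (φ : PLie.PMap R p L)

theorem ad_iterate (n : ℕ) (x : L) :
    LieAlgebra.ad R L (φ.toFun^[n] x) = LieAlgebra.ad R L x ^ p ^ n := by
  induction n with
  | zero => simp
  | succ n ih => rw [Function.iterate_succ_apply', φ.ad_map, ih, ← pow_mul, ← pow_succ]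

theorem ad_pow_mem (I : LieIdeal R L) {x : L} (hx : x ∈ I) (m : ℕ) (hm : 0 < m) (y : L) :
    (LieAlgebra.ad R L x ^ m) y ∈ I := by
  obtain ⟨n, rfl⟩ := Nat.exists_eq_succ_of_ne_zero hm.ne'
  rw [pow_succ', Module.End.mul_apply, LieAlgebra.ad_apply]
  exact lie_mem_left R L I x _ hx

/-- An ideal all whose elements are `ad`-nilpotent on `L` is nilpotent. -/
theorem isNilpotent_ideal [IsNoetherian R L] (I : LieIdeal R L)
    (h : ∀ x ∈ I, IsNilpotent (LieAlgebra.ad R L x)) : LieRing.IsNilpotent I := by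
  rw [LieAlgebra.isNilpotent_iff_forall (R := R)]
  intro x
  obtain ⟨n, hn⟩ := h x x.2
  refine ⟨n, LinearMap.ext fun y => Subtype.ext ?_⟩
  have key : ∀ (m : ℕ) (z : I), (((LieAlgebra.ad R I x ^ m) z : I) : L) = (LieAlgebra.ad R L (x : L) ^ m) z := by
    intro m
    induction m with
    | zero => intro z; rfl
    | succ m ih =>
      intro z
      rw [pow_succ, pow_succ, Module.End.mul_apply, Module.End.mul_apply, ih]
      rfl
  rw [key, hn]
  rfl

/-- If `x` lies in a nilpotent ideal `N` then every element of `N + k φ(x)` is `ad`-nilpotent. -/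
theorem isNilpotent_ad_add [Fact p.Prime] (N : LieIdeal R L) [LieRing.IsNilpotent N] {x n : L} (hx : x ∈ N)
    (hn : n ∈ N) (c : R) : IsNilpotent (LieAlgebra.ad R L (n + c • φ x)) := by
  let E := LieAlgebra.ad R L (n + c • φ x)
  have hE : ∀ y, E y = ⁅n, y⁆ + c • (LieAlgebra.ad R L x ^ p) y := fun y => by
    simp only [E, map_add, map_smul, LinearMap.add_apply, LinearMap.smul_apply, LieAlgebra.ad_apply R L n, φ.ad_map]
  have hp : 0 < p := (Fact.out : p.Prime).pos
  have hstep : ∀ (m : ℕ) (z : N), z ∈ LieModule.lowerCentralSeries R N N m →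
      ∃ z' : N, z' ∈ LieModule.lowerCentralSeries R N N (m + 1) ∧ (z' : L) = E z := by
    intro m z hz
    have hbr : ∀ (a z : N) (j : ℕ), z ∈ LieModule.lowerCentralSeries R N N j →
        ⁅a, z⁆ ∈ LieModule.lowerCentralSeries R N N (j + 1) := fun a z j hz => by
      rw [LieModule.lowerCentralSeries_succ]
      exact LieSubmodule.lie_mem_lie (LieSubmodule.mem_top a) hz
    have hpow : ∀ j : ℕ, ∃ z' : N, z' ∈ LieModule.lowerCentralSeries R N N (m + j) ∧
        (z' : L) = (LieAlgebra.ad R L x ^ j) z := by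
      intro j
      induction j with
      | zero => exact ⟨z, hz, rfl⟩
      | succ j ih =>
        obtain ⟨z', hz', he⟩ := ih
        refine ⟨⁅(⟨x, hx⟩ : N), z'⁆, hbr _ _ _ hz', ?_⟩
        rw [pow_succ', Module.End.mul_apply, ← he, LieAlgebra.ad_apply]
        rfl
    obtain ⟨z', hz', he⟩ := hpow p
    refine ⟨⁅(⟨n, hn⟩ : N), z⁆ + c • z', add_mem (hbr _ _ _ hz) (SMulMemClass.smul_mem c
      (LieModule.antitone_lowerCentralSeries R N N (by omega) hz')), ?_⟩
    rw [hE, ← he]
    rfl
  obtain ⟨K, hK⟩ := (LieModule.isNilpotent_iff R N N).mp inferInstance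
  refine ⟨K + 1, LinearMap.ext fun y => ?_⟩
  have hy : E y ∈ N := by
    rw [hE]
    exact add_mem (lie_mem_left R L N n y hn) (SMulMemClass.smul_mem c (ad_pow_mem N hx p hp y))
  have hiter : ∀ m, ∃ z : N, z ∈ LieModule.lowerCentralSeries R N N m ∧ (z : L) = (E ^ m) (E y) := by
    intro m
    induction m with
    | zero => exact ⟨⟨E y, hy⟩, by simp, rfl⟩
    | succ m ih =>
      obtain ⟨z, hz, he⟩ := ih
      obtain ⟨z', hz', he'⟩ := hstep m z hz
      exact ⟨z', hz', by rw [he', he, ← Module.End.mul_apply, ← pow_succ']⟩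
  obtain ⟨z, hz, he⟩ := hiter K
  rw [hK, LieSubmodule.mem_bot] at hz
  rw [hz] at he
  rw [pow_succ, Module.End.mul_apply]
  exact he.symm

theorem pmap_mem_nilradical [Fact p.Prime] [IsNoetherian R L] (N : LieIdeal R L) (hN : LieRing.IsNilpotent N)
    (hmax : ∀ I : LieIdeal R L, LieRing.IsNilpotent I → I ≤ N) {x : L} (hx : x ∈ N) : φ x ∈ N := by
  have := hN
  let N' : LieIdeal R L :=
    { (N : Submodule R L) ⊔ Submodule.span R {φ x} with
      lie_mem := by
        intro y m hm
        obtain ⟨n, hn, w, hw, rfl⟩ := Submodule.mem_sup.mp hm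
        obtain ⟨c, rfl⟩ := Submodule.mem_span_singleton.mp hw
        refine Submodule.mem_sup_left ?_
        rw [lie_add, lie_smul, ← lie_skew y (φ x), ← LieAlgebra.ad_apply R L (φ x), φ.ad_map]
        exact N.add_mem (N.lie_mem hn) (N.smul_mem c (N.neg_mem (ad_pow_mem N hx p (Fact.out : p.Prime).pos y))) }
  have h' : LieRing.IsNilpotent N' := isNilpotent_ideal N' fun z hz => by
    obtain ⟨n, hn, w, hw, rfl⟩ := Submodule.mem_sup.mp hz
    obtain ⟨c, rfl⟩ := Submodule.mem_span_singleton.mp hw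
    exact isNilpotent_ad_add φ N hx hn c
  exact hmax N' h' (Submodule.mem_sup_right (Submodule.mem_span_singleton_self _))

theorem isNilpotent_of_forall_pNilpotent [IsNoetherian R L] (I : LieIdeal R L)
    (h : ∀ x ∈ I, PLie.IsPNilpotent φ x) : LieRing.IsNilpotent I :=
  isNilpotent_ideal I fun x hx => by
    obtain ⟨n, hn⟩ := h x hx
    exact ⟨p ^ n, by rw [← ad_iterate φ, hn, map_zero]⟩

end Groth.Agent.PLieLib
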