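import Mathlib
import Groth.Prelude.Def_PLie

/-! # Jacobson's formulae in an associative algebra of characteristic `p` -/

universe u v w

namespace Groth.Agent.PLieLib

open Polynomial

variable {R : Type u} [CommRing R] {p : ℕ} [Fact p.Prime] [CharP R p]

theorem choose_pred_eq (i : ℕ) (hi : i < p) : ((Nat.choose (p - 1) i : ℕ) : R) = (-1) ^ i := by
  induction i with
  | zero => simp
  | succ i ih =>
    have hp : p.Prime := Fact.out
    have h1 : ((Nat.choose p (i + 1) : ℕ) : R) = 0 :=
      (CharP.cast_eq_zero_iff R p _).mpr (hp.dvd_choose_self (Nat.succ_ne_zero i) hi)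
    rw [show p = p - 1 + 1 by have := hp.pos; omega, Nat.choose_succ_succ, Nat.cast_add, ih (by omega)] at h1
    rw [pow_succ, eq_neg_of_add_eq_zero_right h1, mul_neg_one]

theorem sub_pow_pred_eq_geomSum {A : Type w} [Ring A] [Algebra R A] {l r : A} (h : Commute l r) :
    (l - r) ^ (p - 1) = ∑ i ∈ Finset.range p, l ^ i * r ^ (p - 1 - i) := by
  have hp : p.Prime := Fact.out
  rw [sub_eq_add_neg, h.neg_right.add_pow, Nat.sub_add_cancel hp.pos]
  refine Finset.sum_congr rfl fun i hi => ?_
  have hip := Finset.mem_range.mp hi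
  rw [neg_pow r, ← map_natCast (algebraMap R A) ((p - 1).choose i), choose_pred_eq i hip, map_pow, map_neg, map_one]
  have hs : ((-1 : A) ^ (p - 1 - i) * (-1) ^ i) = 1 := by
    rw [← pow_add, Nat.sub_add_cancel (by omega)]
    rcases hp.eq_two_or_odd' with h2 | hodd
    · subst h2
      have h2 : (2 : A) = 0 := by
        rw [← map_ofNat (algebraMap R A) 2, show (2 : R) = 0 from CharTwo.two_eq_zero, map_zero]
      simp only [Nat.succ_sub_succ_eq_sub, tsub_zero, pow_one]
      exact neg_eq_of_add_eq_zero_left (by rw [one_add_one_eq_two, h2])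
    · exact (Nat.Odd.sub_odd hodd odd_one).neg_one_pow
  calc l ^ i * ((-1) ^ (p - 1 - i) * r ^ (p - 1 - i)) * (-1) ^ i
      = l ^ i * r ^ (p - 1 - i) * ((-1) ^ (p - 1 - i) * (-1) ^ i) := by
        rw [((Commute.neg_one_left _).pow_left _).eq]
        simp only [mul_assoc]
    _ = _ := by rw [hs, mul_one]

theorem sub_pow_char_eq {A : Type w} [Ring A] [Algebra R A] {l r : A} (h : Commute l r) :
    (l - r) ^ p = l ^ p - r ^ p := by
  have hp : p.Prime := Fact.out
  rw [← h.mul_geom_sum₂ p, ← sub_pow_pred_eq_geomSum (R := R) h, ← pow_succ', Nat.sub_add_cancel hp.pos]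

section Assoc

variable {A : Type w} [Ring A] [Algebra R A]

variable (R) in
/-- The commutator with `x`. -/
def com (x : A) : Module.End R A := LinearMap.mulLeft R x - LinearMap.mulRight R x

theorem com_apply (x a : A) : com R x a = x * a - a * x := rfl

variable (p) in
theorem com_pow_char (x : A) : com R x ^ p = com R (x ^ p) := by
  rw [com, sub_pow_char_eq (R := R) (LinearMap.commute_mulLeft_right x x), LinearMap.pow_mulLeft,
    LinearMap.pow_mulRight]
  rfl

theorem com_pow_pred (x a : A) :
    (com R x ^ (p - 1)) a = ∑ i ∈ Finset.range p, x ^ i * a * x ^ (p - 1 - i) := by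
  rw [com, sub_pow_pred_eq_geomSum (R := R) (LinearMap.commute_mulLeft_right x x), LinearMap.sum_apply]
  refine Finset.sum_congr rfl fun i _ => ?_
  rw [Module.End.mul_apply, LinearMap.pow_mulLeft, LinearMap.pow_mulRight, LinearMap.mulLeft_apply,
    LinearMap.mulRight_apply, mul_assoc]

theorem derivative_pow' (f : A[X]) (n : ℕ) :
    derivative (f ^ n) = ∑ i ∈ Finset.range n, f ^ i * derivative f * f ^ (n - 1 - i) := by
  induction n with
  | zero => simp
  | succ n ih =>
    rw [pow_succ, derivative_mul, ih, Finset.sum_range_succ, Finset.sum_mul]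
    congr 1
    · refine Finset.sum_congr rfl fun i hi => ?_
      rw [mul_assoc, ← pow_succ]
      congr 2
      have := Finset.mem_range.mp hi
      omega
    · simp

variable {L : Type v} [LieRing L] [LieAlgebra R L] (e : L →ₗ[R] A)
  (he : ∀ x y : L, e ⁅x, y⁆ = e x * e y - e y * e x)

/-- The number of letters `true` in a word. -/
def nT (w : List Bool) : ℕ := w.count true

include he in
theorem com_pow_word (x y : L) (n : ℕ) :
    (com R (C (e x) + X * C (e y) : A[X]) ^ n) (C (e y)) =
      ∑ t : Fin n → Bool, monomial (nT (List.ofFn t)) (e (PLie.bracketWord (PLie.pair x y) y (List.ofFn t))) := by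
  induction n with
  | zero => simp [nT, monomial_zero_left]
  | succ n ih =>
    rw [pow_succ', Module.End.mul_apply, ih, map_sum,
      ← Equiv.sum_comp (Fin.consEquiv fun _ : Fin (n + 1) => Bool), Fintype.sum_prod_type, Fintype.sum_bool,
      ← Finset.sum_add_distrib]
    refine Finset.sum_congr rfl fun t _ => ?_
    have h1 : List.ofFn (Fin.consEquiv (fun _ : Fin (n + 1) => Bool) (true, t)) = true :: List.ofFn t :=
      List.ofFn_cons true t
    have h2 : List.ofFn (Fin.consEquiv (fun _ : Fin (n + 1) => Bool) (false, t)) = false :: List.ofFn t :=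
      List.ofFn_cons false t
    rw [h1, h2, com_apply]
    simp only [nT, List.count_cons_self, List.count_cons_of_ne (Bool.false_ne_true), PLie.bracketWord_cons, he, map_sub,
      PLie.pair, if_true, add_mul, mul_add]
    rw [show C (e x) = monomial 0 (e x) from rfl, show C (e y) = monomial 0 (e y) from rfl, X_mul_monomial, monomial_mul_monomial,
      monomial_mul_monomial, monomial_mul_monomial, monomial_mul_monomial]
    simp only [Bool.false_eq_true, if_false, zero_add, add_zero, add_comm 1]
    abel

theorem card_false_add_nT {n : ℕ} (t : Fin n → Bool) :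
    Fintype.card {i // t i = false} + nT (List.ofFn t) = n := by
  induction n with
  | zero => simp [nT]
  | succ n ih =>
    rw [List.ofFn_succ, nT, List.count_cons, Fintype.card_subtype, Fin.card_filter_univ_succ']
    have := ih fun i => t i.succ
    rw [nT, Fintype.card_subtype] at this
    cases t 0 <;> simp [Function.comp_def] at * <;> omega

include he in
/-- Jacobson's formula. -/
theorem jacobson_assoc (x y : L) :
    e (PLie.jacobson R p x y) = e x ^ p + e y ^ p - (e x + e y) ^ p := by
  have hp : p.Prime := Fact.out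
  let P : A[X] := C (e x) + X * C (e y)
  have hP : derivative P = C (e y) := by simp [P]
  have hder : derivative (P ^ p) =
      ∑ t : Fin (p - 1) → Bool, monomial (nT (List.ofFn t)) (e (PLie.bracketWord (PLie.pair x y) y (List.ofFn t))) := by
    rw [derivative_pow', hP, ← com_pow_pred (R := R), com_pow_word e he]
  let cst : ℕ → R := fun r => ZMod.castHom (dvd_refl p) R ((r : ZMod p)⁻¹)
  have hcst : ∀ r : ℕ, 0 < r → r < p → cst r * (r : R) = 1 := fun r h0 hr => by
    have hne : (r : ZMod p) ≠ 0 := fun h => absurd ((ZMod.natCast_eq_zero_iff r p).mp h |> Nat.le_of_dvd h0) (by omega)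
    rw [← map_natCast (ZMod.castHom (dvd_refl p) R) r, ← map_mul, inv_mul_cancel₀ hne, map_one]
  have hdeg : ∀ n, (P ^ n).natDegree ≤ n ∧ (P ^ n).coeff n = e y ^ n := by
    have hP1 : P.natDegree ≤ 1 :=
      (natDegree_add_le _ _).trans (max_le ((natDegree_C _).le.trans (Nat.zero_le 1))
        (natDegree_mul_le.trans (by rw [natDegree_C, add_zero]; exact natDegree_X_le)))
    intro n
    induction n with
    | zero => simp
    | succ n ih =>
      refine ⟨by rw [pow_succ]; exact natDegree_mul_le.trans (Nat.add_le_add ih.1 hP1), ?_⟩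
      rw [pow_succ, coeff_mul_add_eq_of_natDegree_le ih.1 hP1, ih.2, pow_succ]
      simp [P]
  have hcoef : ∀ m, m + 1 < p → (P ^ p).coeff (m + 1) =
      -∑ t ∈ Finset.univ.filter (fun t : Fin (p - 1) → Bool => nT (List.ofFn t) = m),
        cst (Fintype.card {i // t i = false}) • e (PLie.bracketWord (PLie.pair x y) y (List.ofFn t)) := by
    intro m hm
    have h := congrArg (fun f => f.coeff m) hder
    simp only [coeff_derivative, finsetSum_coeff, coeff_monomial, ← Finset.sum_filter] at h
    have hr : ∀ t ∈ Finset.univ.filter (fun t : Fin (p - 1) → Bool => nT (List.ofFn t) = m),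
        Fintype.card {i // t i = false} = p - 1 - m := fun t ht => by
      have := card_false_add_nT t
      rw [(Finset.mem_filter.mp ht).2] at this
      omega
    rw [Finset.sum_congr rfl (fun t ht => by rw [hr t ht]), ← Finset.smul_sum, ← h, ← neg_smul]
    have key : -cst (p - 1 - m) * ((m + 1 : ℕ) : R) = 1 := by
      rw [show ((m + 1 : ℕ) : R) = -((p - 1 - m : ℕ) : R) from eq_neg_of_add_eq_zero_left (by
        rw [← Nat.cast_add, show m + 1 + (p - 1 - m) = p by omega, CharP.cast_eq_zero]), neg_mul_neg]
      exact hcst _ (by omega) (by omega)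
    conv_lhs => rw [← one_smul R ((P ^ p).coeff (m + 1)), ← key, mul_smul, Nat.cast_smul_eq_nsmul]
    rw [nsmul_eq_mul, (Nat.cast_commute _ _).eq]
    norm_cast
  have heval : (e x + e y) ^ p = ∑ i ∈ Finset.range (p + 1), (P ^ p).coeff i := by
    have : eval₂ (RingHom.id A) 1 (P ^ p) = (e x + e y) ^ p := by
      show eval₂RingHom' (RingHom.id A) 1 (fun a => Commute.one_right _) (P ^ p) = _
      rw [map_pow]
      simp [eval₂RingHom', P]
    rw [← this]
    show eval 1 (P ^ p) = _
    rw [eval_eq_sum_range' (Nat.lt_succ_of_le (hdeg p).1)]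
    simp
  have h0 : (P ^ p).coeff 0 = e x ^ p := by
    rw [← constantCoeff_apply, map_pow]
    simp [P]
  obtain ⟨q, hq⟩ : ∃ q, p = q + 1 := ⟨p - 1, by have := hp.pos; omega⟩
  rw [heval, Finset.sum_range_succ, (hdeg p).2]
  conv_rhs => enter [2, 1]; rw [hq, Finset.sum_range_succ']
  rw [← hq, h0]
  rw [Finset.sum_congr rfl (fun m hm => hcoef m (by have := Finset.mem_range.mp hm; omega))]
  simp only [PLie.jacobson, map_sum, map_smul, Finset.sum_neg_distrib]
  rw [← Finset.sum_fiberwise_of_maps_to (g := fun t : Fin (p - 1) → Bool => nT (List.ofFn t))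
    (t := Finset.range (q + 1)) (fun t _ => Finset.mem_range.mpr (by have := card_false_add_nT t; omega)),
    Finset.sum_range_succ]
  have hlast : ∑ t ∈ Finset.univ.filter (fun t : Fin (p - 1) → Bool => nT (List.ofFn t) = q),
      cst (Fintype.card {i // t i = false}) • e (PLie.bracketWord (PLie.pair x y) y (List.ofFn t)) = 0 :=
    Finset.sum_eq_zero fun t ht => by
      have h1 := card_false_add_nT t
      rw [(Finset.mem_filter.mp ht).2] at h1
      have : Fintype.card {i // t i = false} = 0 := by omega
      rw [this, show cst 0 = 0 by simp [cst], zero_smul]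
  dsimp only [cst] at hlast ⊢
  rw [hlast]
  abel

end Assoc

end Groth.Agent.PLieLib
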