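import Groth.Agent.PLieLib.Exists
import Mathlib.Algebra.DualNumber

/-! # Lie algebras free of rank three, in coordinates -/

universe u v

namespace Groth.Agent.PLieLib

variable {R : Type u} [CommRing R] {L : Type v} [LieRing L] [LieAlgebra R L]
  (bs : Module.Basis (Fin 3) R L)

/-- The vector with the given coordinates. -/
noncomputable def el (U : Fin 3 → R) : L := U 0 • bs 0 + U 1 • bs 1 + U 2 • bs 2

/-- The bracket in coordinates, for structure constants `A = [e₀, e₁]`, `B = [e₀, e₂]`, `C = [e₁, e₂]`. -/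
def br (A B C U V : Fin 3 → R) : Fin 3 → R := fun i =>
  (U 0 * V 1 - U 1 * V 0) * A i + (U 0 * V 2 - U 2 * V 0) * B i + (U 1 * V 2 - U 2 * V 1) * C i

theorem repr_el (U : Fin 3 → R) (i : Fin 3) : bs.repr (el bs U) i = U i := by
  fin_cases i <;> simp [el]

theorem el_injective {U V : Fin 3 → R} (h : el bs U = el bs V) : U = V :=
  funext fun i => by rw [← repr_el bs U, h, repr_el]

theorem exists_el (w : L) : ∃ U, w = el bs U :=
  ⟨fun i => bs.repr w i, bs.ext_elem fun i => (repr_el bs _ i).symm⟩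

theorem lie_el {A B C : Fin 3 → R} (hA : ⁅bs 0, bs 1⁆ = el bs A) (hB : ⁅bs 0, bs 2⁆ = el bs B)
    (hC : ⁅bs 1, bs 2⁆ = el bs C) (U V : Fin 3 → R) : ⁅el bs U, el bs V⁆ = el bs (br A B C U V) := by
  have e1 : ⁅bs 1, bs 0⁆ = -el bs A := by rw [← lie_skew, hA]
  have e2 : ⁅bs 2, bs 0⁆ = -el bs B := by rw [← lie_skew, hB]
  have e3 : ⁅bs 2, bs 1⁆ = -el bs C := by rw [← lie_skew, hC]
  conv_lhs => rw [el, el]
  simp only [add_lie, lie_add, smul_lie, lie_smul, lie_self, hA, hB, hC, e1, e2, e3]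
  simp only [el, br]
  module

theorem el_single (i : Fin 3) : el bs (Pi.single i (1 : R)) = bs i := by
  fin_cases i <;> simp [el]

/-- Existence of a `p`-map in coordinates. -/
theorem nonempty_pmap_iff_coords (p : ℕ) [Fact p.Prime] [CharP R p] {A B C : Fin 3 → R}
    (hA : ⁅bs 0, bs 1⁆ = el bs A) (hB : ⁅bs 0, bs 2⁆ = el bs B) (hC : ⁅bs 1, bs 2⁆ = el bs C) :
    Nonempty (PLie.PMap R p L) ↔ ∀ i, ∃ W, ∀ j,
      (br A B C (Pi.single i 1))^[p] (Pi.single j 1) = br A B C W (Pi.single j 1) := by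
  have key : ∀ (U : Fin 3 → R) (n : ℕ) (V : Fin 3 → R),
      (LieAlgebra.ad R L (el bs U) ^ n) (el bs V) = el bs ((br A B C U)^[n] V) := by
    intro U n
    induction n with
    | zero => intro V; rfl
    | succ n ih =>
      intro V
      rw [pow_succ', Module.End.mul_apply, ih, LieAlgebra.ad_apply, lie_el bs hA hB hC, Function.iterate_succ_apply']
  rw [nonempty_pmap_iff bs]
  refine forall_congr' fun i => ⟨?_, ?_⟩
  · rintro ⟨y, hy⟩
    obtain ⟨W, rfl⟩ := exists_el bs y
    refine ⟨W, fun j => el_injective bs ?_⟩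
    rw [← key, ← lie_el bs hA hB hC, el_single, el_single, hy, LieAlgebra.ad_apply]
  · rintro ⟨W, hW⟩
    refine ⟨el bs W, bs.ext fun j => ?_⟩
    rw [← el_single bs j, ← el_single bs i, key, hW, LieAlgebra.ad_apply, lie_el bs hA hB hC]

/-- The Jacobi identity in coordinates. -/
theorem jacobi_coords {A B C : Fin 3 → R} (hA : ⁅bs 0, bs 1⁆ = el bs A) (hB : ⁅bs 0, bs 2⁆ = el bs B)
    (hC : ⁅bs 1, bs 2⁆ = el bs C) (U V W : Fin 3 → R) :
    br A B C U (br A B C V W) = br A B C (br A B C U V) W + br A B C V (br A B C U W) := by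
  refine el_injective bs ?_
  rw [show el bs (br A B C (br A B C U V) W + br A B C V (br A B C U W)) =
      el bs (br A B C (br A B C U V) W) + el bs (br A B C V (br A B C U W)) from by
        simp only [el, Pi.add_apply]; module]
  simp only [← lie_el bs hA hB hC]
  exact leibniz_lie _ _ _

section Dual

variable {K : Type u} [Field K]

open DualNumber TrivSqZeroExt

/-- The dual number `a + bε`. -/
def mk2 (a b : K) : DualNumber K := TrivSqZeroExt.inl a + TrivSqZeroExt.inr b

@[simp] theorem fst_mk2 (a b : K) : (mk2 a b).fst = a := by simp [mk2]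

@[simp] theorem snd_mk2 (a b : K) : (mk2 a b).snd = b := by simp [mk2]

theorem dual_ext {x y : DualNumber K} (h1 : x.fst = y.fst) (h2 : x.snd = y.snd) : x = y := TrivSqZeroExt.ext h1 h2

end Dual

end Groth.Agent.PLieLib
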