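import Groth.Prelude.Def_PLie
import Groth.Agent.PBW.Basic
import Groth.Agent.PLieLib.Jacobson
import Groth.Agent.PLieLib.Exists
import Mathlib.Data.Multiset.Sort
import Mathlib.LinearAlgebra.Matrix.ToLin

/-!
# The restricted enveloping algebra is finite and contains the `p`-Lie algebra
-/

universe u v w

open Groth.Agent.PBW

namespace Groth.Agent.PLieLib

section Words

variable {ι : Type w} [LinearOrder ι] [Fintype ι]

/-- The sorted word of a multiset. -/
def wordOf (m : Multiset ι) : W ι := ⟨m.sort, (Multiset.pairwise_sort m (· ≤ ·)).sortedLE⟩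

omit [Fintype ι] in
theorem coe_wordOf (m : Multiset ι) : ((wordOf m).1 : Multiset ι) = m := Multiset.sort_eq m _

omit [Fintype ι] in
theorem wordOf_coe (l : W ι) : wordOf (l.1 : Multiset ι) = l :=
  Subtype.ext ((Multiset.coe_eq_coe.mp (coe_wordOf (l.1 : Multiset ι))).eq_of_pairwise'
    (wordOf (l.1 : Multiset ι)).2.pairwise l.2.pairwise)

omit [Fintype ι] in
theorem length_wordOf (m : Multiset ι) : (wordOf m).1.length = m.card := Multiset.length_sort _

omit [Fintype ι] in
theorem ins_wordOf (i : ι) (m : Multiset ι) : ins i (wordOf m) = wordOf (i ::ₘ m) := by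
  rw [← wordOf_coe (ins i (wordOf m))]
  congr 1
  rw [← coe_wordOf m, Multiset.cons_coe, Multiset.coe_eq_coe]
  rw [coe_wordOf]
  exact List.perm_orderedInsert (· ≤ ·) i _

variable (p : ℕ)

/-- The multiplicities divided by `p`. -/
def qPart (m : Multiset ι) : Multiset ι := ∑ i, Multiset.replicate (m.count i / p) i

theorem count_qPart (m : Multiset ι) (a : ι) : (qPart p m).count a = m.count a / p := by
  simp [qPart, Multiset.count_sum', Multiset.count_replicate]

/-- The remainders of the multiplicities. -/
def rPart (m : Multiset ι) : Multiset ι := m - p • qPart p m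

theorem count_rPart (m : Multiset ι) (a : ι) : (rPart p m).count a = m.count a % p := by
  rw [rPart, Multiset.count_sub, Multiset.count_nsmul, count_qPart]
  have := Nat.div_add_mod (m.count a) p
  omega

theorem decomp (m : Multiset ι) : p • qPart p m + rPart p m = m := by
  ext a
  rw [Multiset.count_add, Multiset.count_nsmul, count_qPart, count_rPart]
  exact Nat.div_add_mod _ _

theorem qPart_add (hp : 0 < p) (m : Multiset ι) (i : ι) :
    qPart p (m + Multiset.replicate p i) = i ::ₘ qPart p m := by
  ext a
  rw [count_qPart, Multiset.count_cons, count_qPart, Multiset.count_add, Multiset.count_replicate]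
  by_cases h : a = i
  · subst h
    rw [if_pos rfl, if_pos rfl, Nat.add_div_right _ hp]
  · rw [if_neg h, if_neg fun h' => h h'.symm, add_zero, add_zero]

theorem rPart_add (m : Multiset ι) (i : ι) : rPart p (m + Multiset.replicate p i) = rPart p m := by
  ext a
  rw [count_rPart, count_rPart, Multiset.count_add, Multiset.count_replicate]
  split_ifs <;> simp

end Words

variable {k : Type u} [Field k] {L : Type v} [LieRing L] [LieAlgebra k L]
  {ι : Type w} [LinearOrder ι] (b : Module.Basis ι k L)

/-- Words of length less than `N`. -/
def below (ι : Type w) [LinearOrder ι] (N : ℕ) : Set (W ι) := {m | m.1.length < N}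

theorem supported_short_le {n N : ℕ} (h : n < N) :
    Finsupp.supported k k (short ι n) ≤ Finsupp.supported k k (below ι N) :=
  Finsupp.supported_mono fun _ hy => Nat.lt_of_le_of_lt hy h

theorem supported_below_mono {n N : ℕ} (h : n ≤ N) :
    Finsupp.supported k k (below ι n) ≤ Finsupp.supported k k (below ι N) :=
  Finsupp.supported_mono fun _ hy => Nat.lt_of_lt_of_le hy h

theorem rho_mem_below (x : L) (N : ℕ) {v : W ι →₀ k} (hv : v ∈ Finsupp.supported k k (below ι N)) :
    rho b x v ∈ Finsupp.supported k k (below ι (N + 1)) := by
  classical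
  have h : ∀ l : W ι, l.1.length < N → rho b x (Finsupp.single l 1) ∈ Finsupp.supported k k (below ι (N + 1)) := by
    intro l hl
    rw [rho_apply_single]
    refine Submodule.sum_mem _ fun i _ => Submodule.smul_mem _ _ ?_
    exact supported_short_le (by omega) (act_mem b l.1.length i l le_rfl).2
  rw [← Finsupp.sum_single v, map_finsuppSum]
  refine Submodule.sum_mem _ fun l hl => ?_
  show rho b x (Finsupp.single l (v l)) ∈ _
  rw [← mul_one (v l), ← smul_eq_mul, ← Finsupp.smul_single, map_smul]
  exact Submodule.smul_mem _ _ (h l (hv hl))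

theorem pow_rho_lead (i : ι) (n : ℕ) {v : W ι →₀ k} {m : Multiset ι}
    (hv : v - Finsupp.single (wordOf m) 1 ∈ Finsupp.supported k k (below ι m.card)) :
    (rho b (b i) ^ n) v - Finsupp.single (wordOf (m + Multiset.replicate n i)) 1 ∈
      Finsupp.supported k k (below ι (m.card + n)) := by
  induction n with
  | zero => simpa using hv
  | succ n ih =>
    set w := wordOf (m + Multiset.replicate n i) with hw
    have h1 := rho_mem_below b (b i) _ ih
    rw [map_sub, rho_single] at h1
    have hwl : w.1.length = m.card + n := by simp [hw, length_wordOf]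
    have h2 : err b i w ∈ Finsupp.supported k k (below ι (m.card + n + 1)) :=
      supported_short_le (by omega) (act_mem b w.1.length i w le_rfl).1
    have h3 := add_mem h1 h2
    rw [err, hw, ins_wordOf, ← Multiset.add_cons, ← Multiset.replicate_succ, sub_add_sub_cancel] at h3
    rwa [pow_succ', Module.End.mul_apply]

theorem linearIndependent_of_lead (F : Multiset ι → W ι →₀ k)
    (hF : ∀ m, F m - Finsupp.single (wordOf m) 1 ∈ Finsupp.supported k k (below ι m.card)) :
    LinearIndependent k F := by
  classical
  rw [linearIndependent_iff]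
  intro c hc
  by_contra hne
  obtain ⟨m, hm, hmax⟩ := Finset.exists_max_image c.support Multiset.card (Finsupp.support_nonempty_iff.mpr hne)
  have h : (Finsupp.linearCombination k F c) (wordOf m) = c m := by
    rw [Finsupp.linearCombination_apply, Finsupp.sum, Finsupp.finsetSum_apply, Finset.sum_eq_single m]
    · have h0 : (F m - Finsupp.single (wordOf m) (1 : k) : W ι →₀ k) (wordOf m) = 0 :=
        Finsupp.notMem_support_iff.mp fun h => absurd (hF m h) (by simp [below, length_wordOf])
      rw [Finsupp.sub_apply, Finsupp.single_eq_same, sub_eq_zero] at h0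
      simp [h0]
    · intro m' hm' hne'
      have h0 : (F m' - Finsupp.single (wordOf m') (1 : k) : W ι →₀ k) (wordOf m) = 0 :=
        Finsupp.notMem_support_iff.mp fun h => absurd (hF m' h) (by simp [below, length_wordOf, hmax m' hm'])
      have hw : wordOf m' ≠ wordOf m := fun h => hne' (by rw [← coe_wordOf m', h, coe_wordOf])
      rw [Finsupp.sub_apply, Finsupp.single_eq_of_ne (Ne.symm hw), sub_zero] at h0
      simp [h0]
    · intro h; simp [Finsupp.notMem_support_iff.mp h]
  rw [hc] at h
  exact Finsupp.mem_support_iff.mp hm h.symm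

theorem span_of_lead (F : Multiset ι → W ι →₀ k)
    (hF : ∀ m, F m - Finsupp.single (wordOf m) 1 ∈ Finsupp.supported k k (below ι m.card)) :
    Submodule.span k (Set.range F) = ⊤ := by
  have h : ∀ (n : ℕ) (l : W ι), l.1.length < n → Finsupp.single l (1 : k) ∈ Submodule.span k (Set.range F) := by
    intro n
    induction n with
    | zero => intro l hl; omega
    | succ n ih =>
      intro l hl
      have h1 := hF (l.1 : Multiset ι)
      rw [wordOf_coe, Multiset.coe_card] at h1
      have h2 : F (l.1 : Multiset ι) - Finsupp.single l 1 ∈ Submodule.span k (Set.range F) := by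
        rw [Finsupp.supported_eq_span_single] at h1
        refine Submodule.span_le.mpr ?_ h1
        rintro _ ⟨l', hl', rfl⟩
        exact ih l' (by simp only [below, Set.mem_ofPred_eq] at hl'; omega)
      have := sub_mem (Submodule.subset_span (Set.mem_range_self (l.1 : Multiset ι))) h2
      rwa [sub_sub_cancel] at this
  rw [eq_top_iff]
  intro v _
  rw [← Finsupp.sum_single v]
  refine Submodule.sum_mem _ fun l _ => ?_
  rw [← mul_one (v l), ← smul_eq_mul, ← Finsupp.smul_single]
  exact Submodule.smul_mem _ _ (h _ l (Nat.lt_succ_self _))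

include b in
/-- A `p`-Lie algebra on a finite basis embeds in a finite dimensional associative algebra of endomorphisms. -/
theorem exists_restricted_rep (p : ℕ) [Fact p.Prime] [CharP k p] (φ : PLie.PMap k p L) [Fintype ι] :
    ∃ (n : ℕ) (e : L →ₗ[k] Matrix (Fin n) (Fin n) k), PLie.IsPSubOfAssoc φ e := by
  classical
  have hp : p.Prime := Fact.out
  let := LieRing.ofAssociativeRing (A := UniversalEnvelopingAlgebra k L)
  let U := UniversalEnvelopingAlgebra k L
  let e : L →ₗ[k] U := (UniversalEnvelopingAlgebra.ι k).toLinearMap
  have he : ∀ x z : L, e ⁅x, z⁆ = e x * e z - e z * e x := fun x z =>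
    (LieHom.map_lie (UniversalEnvelopingAlgebra.ι k) x z).trans (LieRing.of_associative_ring_bracket _ _)
  let z : ι → U := fun i => e (b i) ^ p - e (φ (b i))
  have hcom : ∀ (n : ℕ) (x a : L), (com k (e x) ^ n) (e a) = e ((LieAlgebra.ad k L x ^ n) a) := by
    intro n
    induction n with
    | zero => intros; simp
    | succ n ih =>
      intro x a
      rw [pow_succ', pow_succ', Module.End.mul_apply, Module.End.mul_apply, ih, com_apply, LieAlgebra.ad_apply, he]
  have hz : ∀ i, z i ∈ Subalgebra.center k U := by
    intro i
    rw [Subalgebra.mem_center_iff]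
    intro u
    have hgen : ∀ a : L, e a * z i = z i * e a := fun a => by
      have h1 : com k (e (b i) ^ p) (e a) = e ⁅φ (b i), a⁆ := by
        rw [← com_pow_char (R := k) p, hcom, ← φ.ad_map, LieAlgebra.ad_apply]
      rw [com_apply, he] at h1
      simp only [z, sub_mul, mul_sub]
      rw [eq_comm, ← sub_eq_zero, sub_sub_sub_comm, h1, sub_self]
    obtain ⟨t, rfl⟩ : ∃ t, UniversalEnvelopingAlgebra.mkAlgHom k L t = u :=
      RingCon.mkₐ_surjective (α := k) (c := UniversalEnvelopingAlgebra.ringCon k L) u
    induction t using TensorAlgebra.induction with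
    | algebraMap r => rw [AlgHom.commutes]; exact Algebra.commutes r _
    | ι x => exact hgen x
    | mul a c ha hc => rw [map_mul, mul_assoc, hc, ← mul_assoc, ha, mul_assoc]
    | add a c ha hc => rw [map_add, add_mul, mul_add, ha, hc]
  let zc : ι → Subalgebra.center k U := fun i => ⟨z i, hz i⟩
  let F : Multiset ι → U := fun m => ((((qPart p m).map zc).prod : Subalgebra.center k U) : U) * mono b (wordOf (rPart p m))
  let E : U →ₗ[k] (W ι →₀ k) := LinearMap.applyₗ (Finsupp.single (nil : W ι) (1 : k)) ∘ₗ (envAct b).toLinearMap
  have hE : E = (envEquiv b).symm.toLinearMap := rfl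
  have hlead : ∀ (q r : Multiset ι),
      E ((((q.map zc).prod : Subalgebra.center k U) : U) * mono b (wordOf r)) -
        Finsupp.single (wordOf (p • q + r)) 1 ∈ Finsupp.supported k k (below ι (p • q + r).card) := by
    intro q r
    induction q using Multiset.induction with
    | empty =>
      have : E (mono b (wordOf r)) = Finsupp.single (wordOf r) 1 := envAct_mono b _
      simp [this]
    | cons i q ih =>
      rw [Multiset.map_cons, Multiset.prod_cons, MulMemClass.coe_mul, mul_assoc]
      set v := E ((((q.map zc).prod : Subalgebra.center k U) : U) * mono b (wordOf r)) with hv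
      have hzv : E ((zc i : U) * ((((q.map zc).prod : Subalgebra.center k U) : U) * mono b (wordOf r))) =
          (rho b (b i) ^ p) v - rho b (φ (b i)) v := by
        show envAct b ((e (b i) ^ p - e (φ (b i))) * _) _ = _
        rw [map_mul, map_sub, map_pow]
        show (envAct b (UniversalEnvelopingAlgebra.ι k (b i)) ^ p - envAct b (UniversalEnvelopingAlgebra.ι k (φ (b i)))) _ = _
        rw [envAct_ι, envAct_ι]
        rfl
      rw [hzv]
      have hvb : v ∈ Finsupp.supported k k (below ι ((p • q + r).card + 1)) := by
        have h1 : Finsupp.single (wordOf (p • q + r)) (1 : k) ∈ Finsupp.supported k k (below ι ((p • q + r).card + 1)) :=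
          Finsupp.single_mem_supported k 1 (by simp [below, length_wordOf])
        have h2 := add_mem (supported_below_mono (Nat.le_succ _) ih) h1
        rwa [sub_add_cancel] at h2
      have hsum : p • (i ::ₘ q) + r = p • q + r + Multiset.replicate p i := by
        rw [← Multiset.singleton_add, nsmul_add, Multiset.nsmul_singleton]
        abel
      have hp2 := hp.two_le
      rw [hsum, sub_right_comm]
      refine sub_mem ?_ (supported_below_mono ?_ (rho_mem_below b _ _ hvb))
      · have h3 := pow_rho_lead b i p ih
        rw [Multiset.card_add _ (Multiset.replicate p i), Multiset.card_replicate]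
        exact h3
      · rw [Multiset.card_add _ (Multiset.replicate p i), Multiset.card_replicate]
        omega
  have hEF : ∀ m, E (F m) - Finsupp.single (wordOf m) 1 ∈ Finsupp.supported k k (below ι m.card) := fun m => by
    have := hlead (qPart p m) (rPart p m)
    rwa [decomp] at this
  have hind : LinearIndependent k F := LinearIndependent.of_comp E (linearIndependent_of_lead _ hEF)
  have hspan : ∀ u : U, u ∈ Submodule.span k (Set.range F) := by
    intro u
    have h : E u ∈ (Submodule.span k (Set.range F)).map E := by
      rw [Submodule.map_span, ← Set.range_comp, span_of_lead (fun m => E (F m)) hEF |> fun h => (by simpa [Function.comp_def] using h : Submodule.span k (Set.range (E ∘ F)) = ⊤)]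
      trivial
    obtain ⟨u', hu', hu''⟩ := h
    rwa [(envEquiv b).symm.injective hu''] at hu'
  have hzF : ∀ i m, z i * F m = F (m + Multiset.replicate p i) := fun i m => by
    simp only [F, qPart_add p hp.pos, rPart_add, Multiset.map_cons, Multiset.prod_cons, MulMemClass.coe_mul, mul_assoc, zc]
  let red : Set (Multiset ι) := {m | qPart p m ≠ 0}
  let R : Submodule k U := Submodule.span k (F '' red)
  let J : Submodule U U := Submodule.span U (Set.range z)
  have hJR : ∀ u ∈ J, u ∈ R := by
    intro u hu
    obtain ⟨c, rfl⟩ := (Submodule.mem_span_range_iff_exists_fun _).mp hu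
    refine Submodule.sum_mem _ fun i _ => ?_
    rw [smul_eq_mul, (Subalgebra.mem_center_iff.mp (hz i)) (c i)]
    generalize c i = t
    induction hspan t using Submodule.span_induction with
    | mem x hx =>
      obtain ⟨m, rfl⟩ := hx
      exact Submodule.subset_span ⟨_, (by simp [red, qPart_add p hp.pos]), (hzF i m).symm⟩
    | zero => simp
    | add a c _ _ ha hc => rw [mul_add]; exact add_mem ha hc
    | smul r a _ ha => rw [mul_smul_comm]; exact R.smul_mem r ha
  let M := U ⧸ J
  let Q : U →ₗ[k] M := J.mkQ.restrictScalars k
  haveI : Module.Finite k M := by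
    let S : Set (Multiset ι) := Set.range fun f : ι → Fin p => ∑ i, Multiset.replicate (f i : ℕ) i
    refine Module.Finite.of_fg_top ⟨((Set.finite_range fun f : ι → Fin p => ∑ i, Multiset.replicate (f i : ℕ) i).image (fun m => Q (F m))).toFinset, eq_top_iff.mpr ?_⟩
    rintro x -
    obtain ⟨u, rfl⟩ := J.mkQ_surjective x
    show Q u ∈ _
    rw [Set.Finite.coe_toFinset]
    induction hspan u using Submodule.span_induction with
    | mem u hu =>
      obtain ⟨m, rfl⟩ := hu
      rcases eq_or_ne (qPart p m) 0 with h0 | h0
      · refine Submodule.subset_span ⟨m, ⟨fun i => ⟨m.count i, ?_⟩, ?_⟩, rfl⟩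
        · have := count_qPart p m i
          rw [h0, Multiset.count_zero] at this
          exact (Nat.div_eq_zero_iff.mp this.symm).resolve_left hp.ne_zero
        · ext a; simp [Multiset.count_sum', Multiset.count_replicate]
      · obtain ⟨i, hi⟩ := Multiset.exists_mem_of_ne_zero h0
        obtain ⟨q', hq'⟩ := Multiset.exists_cons_of_mem hi
        have : F m ∈ J := by
          show ((((qPart p m).map zc).prod : Subalgebra.center k U) : U) * mono b (wordOf (rPart p m)) ∈ J
          rw [hq', Multiset.map_cons, Multiset.prod_cons, MulMemClass.coe_mul, mul_assoc,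
            ← (Subalgebra.mem_center_iff.mp (hz i))]
          exact J.smul_mem _ (Submodule.subset_span ⟨i, rfl⟩)
        have h : Q (F m) = 0 := (Submodule.Quotient.mk_eq_zero J).mpr this
        rw [h]
        exact zero_mem _
    | zero => rw [map_zero]; exact zero_mem _
    | add a c _ _ ha hc => rw [map_add]; exact add_mem ha hc
    | smul r a _ ha => rw [map_smul]; exact Submodule.smul_mem _ r ha
  let θ : U →ₐ[k] Module.End k M := Algebra.lsmul k k M
  let A := algEquivMatrix (Module.finBasis k M)
  let g : L →ₗ[k] Matrix (Fin (Module.finrank k M)) (Fin (Module.finrank k M)) k :=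
    (A.toAlgHom.comp θ).toLinearMap ∘ₗ e
  have hg : ∀ x, g x = A (θ (e x)) := fun x => rfl
  have hgl : ∀ x y, g ⁅x, y⁆ = g x * g y - g y * g x := fun x y => by
    rw [hg, hg, hg, he, map_sub, map_sub, map_mul, map_mul, map_mul, map_mul]
  refine ⟨Module.finrank k M, g, ?_, hgl, ?_⟩
  · refine (injective_iff_map_eq_zero g).mpr fun x hx => ?_
    rw [hg, map_eq_zero_iff A A.injective] at hx
    have h : e x ∈ J := by
      have h1 := LinearMap.congr_fun hx (J.mkQ (1 : U))
      change e x • J.mkQ (1 : U) = 0 at h1
      rwa [← map_smul, smul_eq_mul, mul_one, Submodule.mkQ_apply, Submodule.Quotient.mk_eq_zero] at h1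
    have hF1 : ∀ i, F {i} = e (b i) := fun i => by
      have hq : qPart p ({i} : Multiset ι) = 0 := by
        ext a
        rw [count_qPart, Multiset.count_zero, Multiset.count_singleton]
        exact Nat.div_eq_of_lt (by split_ifs <;> simp [hp.pos, hp.one_lt])
      have hr : rPart p ({i} : Multiset ι) = {i} := by
        rw [rPart, hq, nsmul_zero, tsub_zero]
      simp only [F, hq, hr, Multiset.map_zero, Multiset.prod_zero, OneMemClass.coe_one, one_mul]
      simp [mono, wordOf, e]
    have hex : e x ∈ Submodule.span k (F '' (Set.range fun i : ι => ({i} : Multiset ι))) := by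
      rw [← b.sum_repr x, map_sum]
      exact Submodule.sum_mem _ fun i _ => by
        rw [map_smul, ← hF1]; exact Submodule.smul_mem _ _ (Submodule.subset_span ⟨_, ⟨i, rfl⟩, rfl⟩)
    have hdisj : Disjoint (Set.range fun i : ι => ({i} : Multiset ι)) red := by
      rw [Set.disjoint_left]
      rintro _ ⟨i, rfl⟩ h'
      refine h' ?_
      ext a
      rw [count_qPart, Multiset.count_zero, Multiset.count_singleton]
      exact Nat.div_eq_of_lt (by split_ifs <;> simp [hp.pos, hp.one_lt])
    have h0 := (Submodule.disjoint_def.mp (hind.disjoint_span_image hdisj)) _ hex (hJR _ h)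
    have hli : LinearIndependent k fun i => e (b i) := by
      have : (fun i => e (b i)) = F ∘ fun i => ({i} : Multiset ι) := funext fun i => (hF1 i).symm
      rw [this]
      exact hind.comp _ fun _ _ h => Multiset.singleton_inj.mp h
    rw [← b.sum_repr x, map_sum] at h0
    simp only [map_smul] at h0
    refine b.ext_elem fun i => ?_
    simpa using Fintype.linearIndependent_iff.mp hli _ h0 i
  · intro x
    induction b.mem_span x using Submodule.span_induction with
    | mem x hx =>
      obtain ⟨i, rfl⟩ := hx
      rw [hg, hg, ← map_pow, ← map_pow]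
      refine congrArg A (sub_eq_zero.mp ?_)
      rw [← map_sub]
      refine LinearMap.ext fun y => ?_
      obtain ⟨u, rfl⟩ := J.mkQ_surjective y
      show (e (φ (b i)) - e (b i) ^ p) • J.mkQ u = 0
      rw [← neg_sub, ← map_smul, smul_eq_mul, neg_mul, map_neg, neg_eq_zero, Submodule.mkQ_apply,
        Submodule.Quotient.mk_eq_zero, ← (Subalgebra.mem_center_iff.mp (hz i)) u]
      exact J.smul_mem _ (Submodule.subset_span ⟨i, rfl⟩)
    | zero =>
      have := φ.map_smul 0 0
      rw [zero_smul, zero_pow hp.ne_zero, zero_smul] at this
      show g (φ 0) = _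
      rw [show φ 0 = 0 from this, map_zero, zero_pow hp.ne_zero]
    | add a c _ _ ha hc =>
      show g (φ (a + c)) = _
      rw [show φ (a + c) = φ a + φ c - PLie.jacobson k p a c from φ.map_add a c,
        map_sub, map_add, jacobson_assoc g hgl, ha, hc, map_add]
      abel
    | smul r a _ ha =>
      show g (φ (r • a)) = _
      rw [show φ (r • a) = r ^ p • φ a from φ.map_smul r a, map_smul, ha, map_smul, smul_pow]

end Groth.Agent.PLieLib
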